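import Groth.Agent.OneDim.KrullAkizuki

/-!
Lengths of `M/aM` for finite torsion-free modules over a one-dimensional domain, and the finiteness
criterion by equality in Krull–Akizuki.
-/

set_option autoImplicit false

namespace Groth.Agent.KALen

variable {A : Type*} [CommRing A] {M : Type*} [AddCommGroup M] [Module A M]

/-- `M/aM` and `F/aF` have the same length when `a` is regular on `M` and `M/F` has finite length -/
theorem length_quotient_smul_congr {F : Type*} [AddCommGroup F] [Module A F] {a : A} (ha : IsSMulRegular M a)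
    (φ : F →ₗ[A] M) (hφ : Function.Injective φ)
    (hfin : Module.length A (M ⧸ LinearMap.range φ) ≠ ⊤) :
    Module.length A (M ⧸ LinearMap.range (LinearMap.lsmul A M a)) =
      Module.length A (F ⧸ LinearMap.range (LinearMap.lsmul A F a)) := by
  set N := LinearMap.range φ
  set aN := N.map (LinearMap.lsmul A M a) with haN
  have hle : aN ≤ LinearMap.range (LinearMap.lsmul A M a) := LinearMap.map_le_range
  have haN' : aN ≤ N := Submodule.map_le_iff_le_comap.mpr fun m hm => N.smul_mem a hm
  have h1 : Module.length A (M ⧸ aN) = Module.length A (M ⧸ N) +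
      Module.length A (M ⧸ LinearMap.range (LinearMap.lsmul A M a)) := by
    refine Module.length_eq_add_of_exact (N.mapQ aN (LinearMap.lsmul A M a) (Submodule.le_comap_map _ _))
      (aN.mapQ _ LinearMap.id hle) ?_ ?_ ?_
    · rw [injective_iff_map_eq_zero]
      intro z hz
      obtain ⟨m, rfl⟩ := N.mkQ_surjective z
      obtain ⟨y, hy, hy'⟩ := (Submodule.Quotient.mk_eq_zero aN).mp hz
      exact (Submodule.Quotient.mk_eq_zero N).mpr (ha hy' ▸ hy)
    · intro z
      obtain ⟨m, rfl⟩ := Submodule.mkQ_surjective _ z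
      exact ⟨Submodule.Quotient.mk m, rfl⟩
    · intro z
      obtain ⟨m, rfl⟩ := aN.mkQ_surjective z
      constructor
      · intro h
        obtain ⟨y, hy⟩ := (Submodule.Quotient.mk_eq_zero _).mp h
        exact ⟨Submodule.Quotient.mk y, congrArg Submodule.Quotient.mk hy⟩
      · rintro ⟨y, hy⟩
        obtain ⟨y, rfl⟩ := N.mkQ_surjective y
        rw [← hy]
        exact (Submodule.Quotient.mk_eq_zero _).mpr ⟨y, rfl⟩
  have h2 : Module.length A (M ⧸ aN) = Module.length A (F ⧸ LinearMap.range (LinearMap.lsmul A F a)) +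
      Module.length A (M ⧸ N) := by
    have hF : LinearMap.range (LinearMap.lsmul A F a) ≤ aN.comap φ := by
      rintro _ ⟨y, rfl⟩
      exact ⟨φ y, ⟨y, rfl⟩, (map_smul φ a y).symm⟩
    refine Module.length_eq_add_of_exact ((LinearMap.range (LinearMap.lsmul A F a)).mapQ aN φ hF)
      (aN.mapQ N LinearMap.id haN') ?_ ?_ ?_
    · rw [injective_iff_map_eq_zero]
      intro z hz
      obtain ⟨r, rfl⟩ := Submodule.mkQ_surjective _ z
      obtain ⟨y, ⟨s, rfl⟩, hy'⟩ := (Submodule.Quotient.mk_eq_zero aN).mp hz
      refine (Submodule.Quotient.mk_eq_zero _).mpr ⟨s, hφ ?_⟩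
      rw [LinearMap.lsmul_apply, map_smul]
      exact hy'
    · intro z
      obtain ⟨m, rfl⟩ := Submodule.mkQ_surjective _ z
      exact ⟨Submodule.Quotient.mk m, rfl⟩
    · intro z
      obtain ⟨m, rfl⟩ := aN.mkQ_surjective z
      constructor
      · intro h
        obtain ⟨r, hr⟩ := (Submodule.Quotient.mk_eq_zero _).mp h
        exact ⟨Submodule.Quotient.mk r, congrArg Submodule.Quotient.mk hr⟩
      · rintro ⟨y, hy⟩
        obtain ⟨y, rfl⟩ := Submodule.mkQ_surjective _ y
        rw [← hy]
        exact (Submodule.Quotient.mk_eq_zero _).mpr ⟨y, rfl⟩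
  rw [h1, add_comm] at h2
  exact (ENat.add_left_injective_of_ne_top hfin) h2

/-- the length of `F/aF` for a free module -/
theorem length_pi_quotient (r : ℕ) (a : A) :
    Module.length A ((Fin r → A) ⧸ LinearMap.range (LinearMap.lsmul A (Fin r → A) a)) =
      (r : ℕ∞) * Module.length A (A ⧸ Ideal.span {a}) := by
  let q : (Fin r → A) →ₗ[A] (Fin r → A ⧸ Ideal.span {a}) :=
    LinearMap.pi fun i => (Submodule.mkQ (Ideal.span {a})).comp (LinearMap.proj i)
  have hq : Function.Surjective q := fun v =>
    ⟨fun i => (Submodule.mkQ_surjective _ (v i)).choose,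
      funext fun i => (Submodule.mkQ_surjective _ (v i)).choose_spec⟩
  have hker : LinearMap.range (LinearMap.lsmul A (Fin r → A) a) = LinearMap.ker q := by
    ext v
    constructor
    · rintro ⟨w, rfl⟩
      refine funext fun i => (Submodule.Quotient.mk_eq_zero _).mpr ?_
      change a • w i ∈ _
      rw [smul_eq_mul]
      exact Ideal.mul_mem_right _ _ (Ideal.mem_span_singleton_self a)
    · intro hv
      choose w hw using fun i => Ideal.mem_span_singleton'.mp ((Submodule.Quotient.mk_eq_zero _).mp (congrFun hv i))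
      exact ⟨w, funext fun i => (mul_comm _ _).trans (hw i)⟩
  rw [hker, (q.quotKerEquivOfSurjective hq).length_eq, Module.length_pi_of_fintype]
  simp

variable [IsDomain A] [IsNoetherianRing A] [Ring.KrullDimLE 1 A]

/-- a finite submodule containing a free module of rank `r` with torsion quotient -/
theorem length_quotient_of_free_le {r : ℕ} (φ : (Fin r → A) →ₗ[A] M) (hφ : Function.Injective φ)
    (N : Submodule A M) (hN : N.FG) (hle : LinearMap.range φ ≤ N)
    (htor : ∀ b : M, ∃ d : A, d ≠ 0 ∧ d • b ∈ LinearMap.range φ) {a : A} (ha : IsSMulRegular M a) :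
    Module.length A (N ⧸ LinearMap.range (LinearMap.lsmul A N a)) =
      (r : ℕ∞) * Module.length A (A ⧸ Ideal.span {a}) := by
  classical
  have : Module.Finite A N := Module.Finite.iff_fg.mpr hN
  obtain ⟨s, hs⟩ := hN
  choose d hd0 hd using htor
  let D := ∏ b ∈ s, d b
  let φ' : (Fin r → A) →ₗ[A] N := φ.codRestrict N fun v => hle ⟨v, rfl⟩
  have hD : ∀ n : N, D • n ∈ LinearMap.range φ' := fun n => by
    have : D • (n : M) ∈ LinearMap.range φ := by
      have hn : (n : M) ∈ Submodule.span A (s : Set M) := hs.symm ▸ n.2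
      refine (Submodule.span_le (p := (LinearMap.range φ).comap (LinearMap.lsmul A M D))).mpr (fun b hb => ?_) hn
      change D • b ∈ LinearMap.range φ
      obtain ⟨c, hc⟩ := Finset.dvd_prod_of_mem d hb
      rw [show D = d b * c from hc, mul_comm, mul_smul]
      exact Submodule.smul_mem _ _ (hd b)
    obtain ⟨v, hv⟩ := this
    exact ⟨v, Subtype.ext hv⟩
  rw [length_quotient_smul_congr (M := N) (fun x y h => Subtype.ext (ha (congrArg Subtype.val h))) φ'
    (fun x y h => hφ (congrArg Subtype.val h))
    (OneDim.length_quotient_ne_top_of_smul_mem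
      (mem_nonZeroDivisors_of_ne_zero (Finset.prod_ne_zero_iff.mpr fun b _ => hd0 b)) hD),
    length_pi_quotient]

/-- equality in Krull–Akizuki forces finiteness -/
theorem finite_of_length_eq [IsLocalRing A] {r : ℕ} (φ : (Fin r → A) →ₗ[A] M) (hφ : Function.Injective φ)
    (htor : ∀ b : M, ∃ d : A, d ≠ 0 ∧ d • b ∈ LinearMap.range φ) {a : A} (ha : IsSMulRegular M a)
    (hm : a ∈ IsLocalRing.maximalIdeal A)
    (hfin : Module.length A (M ⧸ LinearMap.range (LinearMap.lsmul A M a)) ≠ ⊤)
    (heq : Module.length A (M ⧸ LinearMap.range (LinearMap.lsmul A M a)) =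
      (r : ℕ∞) * Module.length A (A ⧸ Ideal.span {a})) : Module.Finite A M := by
  classical
  set J := LinearMap.range (LinearMap.lsmul A M a)
  have : IsNoetherian A (M ⧸ J) := (isFiniteLength_iff_isNoetherian_isArtinian.1 (Module.length_ne_top_iff.mp hfin)).1
  obtain ⟨s, hs⟩ := (IsNoetherian.noetherian (⊤ : Submodule A (M ⧸ J)))
  choose g hg using J.mkQ_surjective
  let N : Submodule A M := LinearMap.range φ ⊔ Submodule.span A (g '' s)
  have hNfg : N.FG := by
    refine Submodule.FG.sup ?_ (Submodule.fg_span (s.finite_toSet.image g))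
    rw [← Submodule.map_top]
    exact Submodule.FG.map _ (IsNoetherian.noetherian _)
  let ψ : N →ₗ[A] M ⧸ J := J.mkQ.comp N.subtype
  have hψ : Function.Surjective ψ := by
    rw [← LinearMap.range_eq_top, eq_top_iff, ← hs, Submodule.span_le]
    intro z hz
    exact ⟨⟨g z, Submodule.mem_sup_right (Submodule.subset_span ⟨z, hz, rfl⟩)⟩, hg z⟩
  have hker : LinearMap.range (LinearMap.lsmul A N a) ≤ LinearMap.ker ψ := by
    rintro _ ⟨n, rfl⟩
    exact (Submodule.Quotient.mk_eq_zero J).mpr ⟨n.1, rfl⟩
  let ψ' := (LinearMap.range (LinearMap.lsmul A N a)).liftQ ψ hker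
  have hψ' : Function.Surjective ψ' := fun z => by
    obtain ⟨n, hn⟩ := hψ z
    exact ⟨Submodule.Quotient.mk n, hn⟩
  have hlen := Module.length_eq_add_of_exact (LinearMap.ker ψ').subtype ψ' (Submodule.injective_subtype _) hψ'
    (LinearMap.exact_subtype_ker_map ψ')
  rw [length_quotient_of_free_le φ hφ N hNfg le_sup_left htor ha, ← heq] at hlen
  have h0 : Module.length A (LinearMap.ker ψ') = 0 := by
    refine ENat.add_left_injective_of_ne_top hfin ?_
    change _ + _ = _ + _
    rw [zero_add, ← hlen]
  rw [Module.length_eq_zero_iff, Submodule.subsingleton_iff_eq_bot] at h0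
  have hpure : ∀ b : M, a • b ∈ N → b ∈ N := fun b hb => by
    have h1 : ψ' (Submodule.Quotient.mk ⟨a • b, hb⟩) = 0 :=
      (Submodule.Quotient.mk_eq_zero J).mpr ⟨b, rfl⟩
    rw [← LinearMap.mem_ker, h0, Submodule.mem_bot, Submodule.Quotient.mk_eq_zero] at h1
    obtain ⟨c, hc⟩ := h1
    have : a • (c : M) = a • b := congrArg Subtype.val hc
    exact ha this ▸ c.2
  have htop : N = ⊤ := eq_top_iff.mpr fun b _ => by
    obtain ⟨d, hd0, hd⟩ := htor b
    obtain ⟨n, hn⟩ : ∃ n : ℕ, a ^ n ∈ Ideal.span {d} := by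
      have : a ∈ (Ideal.span {d}).radical := by
        rw [Ideal.radical_eq_sInf, Ideal.mem_sInf]
        rintro P ⟨hdP, hP⟩
        have hPne : P ≠ ⊥ := fun h => hd0 (by
          have := hdP (Ideal.mem_span_singleton_self d)
          rwa [h, Ideal.mem_bot] at this)
        have := hP.isMaximal_of_ne_bot hPne
        rw [IsLocalRing.eq_maximalIdeal this]
        exact hm
      exact this
    obtain ⟨c, hc⟩ := Ideal.mem_span_singleton'.mp hn
    have : a ^ n • b ∈ N := by
      rw [← hc, mul_smul]
      exact N.smul_mem c (Submodule.mem_sup_left hd)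
    clear hn hc
    induction n generalizing b with
    | zero => simpa using this
    | succ n ih =>
      refine hpure b ?_
      rw [pow_succ, mul_smul] at this
      obtain ⟨v, hv⟩ := hd
      exact ih (a • b) trivial ⟨a • v, by rw [map_smul, hv, smul_comm]⟩ this
  exact ⟨htop ▸ hNfg⟩

end Groth.Agent.KALen
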